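import Cfsg.Agent.SolvSig.Equivariant
import Cfsg.Agent.Classification.Four
import Cfsg.Agent.S0502
import Cfsg.Agent.S0205
import Cfsg.Agent.Inv53.TwoConstrained

/-!
# The common closure of a balanced family over one Sylow 2-subgroup with `SCN₃` nonempty
-/

set_option autoImplicit false

namespace CfsgLib.BalancedClosure

open Subgroup

variable {G : Type*} [Group G] [Finite G]

/-- A Sylow 2-subgroup has a normal elementary abelian subgroup of order at least eight. -/
def HasNormalEight (S : Subgroup G) : Prop :=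
  ∃ E : Subgroup G, E ≤ S ∧ S ≤ normalizer (E : Set G) ∧ (∀ a ∈ E, ∀ b ∈ E, a * b = b * a) ∧
    (∀ a ∈ E, a * a = 1) ∧ 8 ≤ Nat.card E

omit [Finite G] in
theorem hasNormalEight_map (S : Subgroup G) (h : HasNormalEight S) (g : G) :
    HasNormalEight (S.map (MulAut.conj g).toMonoidHom) := by
  obtain ⟨E, hES, hn, hc, h2, h8⟩ := h
  refine ⟨E.map (MulAut.conj g).toMonoidHom, map_mono hES,
    (map_mono hn).trans (le_normalizer_map _), ?_, ?_, ?_⟩
  · rintro _ ⟨a, ha, rfl⟩ _ ⟨b, hb, rfl⟩
    rw [← map_mul, hc a ha b hb, map_mul]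
  · rintro _ ⟨a, ha, rfl⟩
    rw [← map_mul, h2 a ha, map_one]
  · rwa [card_map_of_injective (MulAut.conj g).injective]

/-- All Sylow 2-subgroups share the property. -/
theorem hasNormalEight_of_sylow (S : Sylow 2 G) (h : HasNormalEight (S : Subgroup G))
    (T : Sylow 2 G) : HasNormalEight (T : Subgroup G) := by
  obtain ⟨g, rfl⟩ := MulAction.exists_smul_eq G S T
  exact hasNormalEight_map _ h g

/-- A self-centralizing normal abelian subgroup of rank at least three gives one. -/
theorem hasNormalEight_of_scn (S : Sylow 2 G) (A : Subgroup ↥(S : Subgroup G)) (hAn : A.Normal)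
    (hAab : IsMulCommutative ↥A) (hAC : centralizer (A : Set ↥(S : Subgroup G)) = A)
    (hA3 : ¬ Cfsg.PRankLE 2 2 ↥A) : HasNormalEight (S : Subgroup G) := by
  set A' := A.map (S : Subgroup G).subtype
  have hSCN : Cfsg.IsSCN (S : Subgroup G) A' := by
    refine ⟨map_subtype_le A, ?_, le_antisymm ?_ ?_⟩
    · intro s hs
      rw [mem_normalizer_iff]
      intro x
      constructor
      · rintro ⟨a, ha, rfl⟩
        exact ⟨⟨s, hs⟩ * a * ⟨s, hs⟩⁻¹, hAn.conj_mem a ha _, rfl⟩
      · rintro ⟨a, ha, e⟩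
        refine ⟨⟨s, hs⟩⁻¹ * a * ⟨s, hs⟩⁻¹⁻¹, hAn.conj_mem a ha _, ?_⟩
        simp only [map_mul, map_inv, inv_inv, e]
        simp [mul_assoc]
    · intro x hx
      refine ⟨⟨x, hx.1⟩, hAC.le ?_, rfl⟩
      exact mem_centralizer_iff.mpr fun a ha =>
        Subtype.ext (mem_centralizer_iff.mp hx.2 _ (mem_map_of_mem _ ha))
    · refine le_inf (map_subtype_le A) ?_
      rintro _ ⟨a, ha, rfl⟩
      rw [mem_centralizer_iff]
      rintro _ ⟨b, hb, rfl⟩
      rw [← map_mul, ← map_mul, mem_centralizer_iff.mp (hAC.ge ha) b hb]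
  have hA3' : ¬ Cfsg.PRankLE 2 2 ↥A' := by
    intro h
    obtain ⟨e⟩ : Nonempty (A ≃* A') := ⟨A.equivMapOfInjective _ (subtype_injective _)⟩
    refine hA3 fun B hB hB2 => ?_
    rw [← card_map_of_injective (f := e.toMonoidHom) e.injective (K := B)]
    refine h (B.map e.toMonoidHom) inferInstance ?_
    rintro _ ⟨b, hb, rfl⟩
    rw [← map_pow, hB2 b hb, map_one]
  exact CfsgLib.Inv53.exists_elementary_of_scn hSCN hA3'

theorem card_sup_fix {E : Subgroup G} (hc : ∀ a ∈ E, ∀ b ∈ E, a * b = b * a)
    (h2 : ∀ a ∈ E, a * a = 1) {x : G} (hx : x * x = 1) (hxN : x ∈ normalizer (E : Set G)) :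
    Nat.card E ≤ Nat.card ↥(E ⊓ centralizer ({x} : Set G)) ^ 2 := by
  have hxinv : x⁻¹ = x := inv_eq_of_mul_eq_one_left hx
  have hmem : ∀ a ∈ E, x * a * x ∈ E := fun a ha => by
    have := (mem_normalizer_iff.mp hxN a).mp ha
    rwa [hxinv] at this
  let ψ : E →* E := MonoidHom.mk' (fun a => ⟨a * (x * a * x), E.mul_mem a.2 (hmem a a.2)⟩) (by
    rintro ⟨a, ha⟩ ⟨b, hb⟩
    refine Subtype.ext ?_
    show a * b * (x * (a * b) * x) = a * (x * a * x) * (b * (x * b * x))
    calc a * b * (x * (a * b) * x) = a * b * ((x * a * x) * (x * b * x)) := by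
          simp only [mul_assoc]
          rw [← mul_assoc x x, hx, one_mul]
      _ = a * (b * (x * a * x)) * (x * b * x) := by simp only [mul_assoc]
      _ = a * (x * a * x) * (b * (x * b * x)) := by
          rw [hc b hb _ (hmem a ha)]
          simp only [mul_assoc])
  have hker : Nat.card ψ.ker ≤ Nat.card ↥(E ⊓ centralizer ({x} : Set G)) := by
    rw [← card_map_of_injective E.subtype_injective]
    refine Subgroup.card_le_of_le ?_
    rintro _ ⟨a, ha, rfl⟩
    refine ⟨a.2, mem_centralizer_singleton_iff.mpr ?_⟩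
    have h1 : (a : G) * (x * a * x) = 1 := congrArg Subtype.val ha
    have h3 : x * a * x = (a : G) := by
      have := congrArg (fun y => (a : G) * y) h1
      simp only [← mul_assoc, h2 a a.2, one_mul, mul_one] at this
      exact this
    calc (a : G) * x = x * a * x * x := by rw [h3]
      _ = x * a := by rw [mul_assoc, hx, mul_one]
  have hrange : Nat.card ψ.range ≤ Nat.card ↥(E ⊓ centralizer ({x} : Set G)) := by
    rw [← card_map_of_injective E.subtype_injective]
    refine Subgroup.card_le_of_le ?_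
    rintro _ ⟨_, ⟨a, rfl⟩, rfl⟩
    refine ⟨(ψ a).2, mem_centralizer_singleton_iff.mpr ?_⟩
    show (a : G) * (x * a * x) * x = x * (a * (x * a * x))
    calc (a : G) * (x * a * x) * x = (a : G) * (x * a) := by simp only [mul_assoc, hx, mul_one]
      _ = x * ((x * a * x) * a) := by
          simp only [← mul_assoc, hx, one_mul]
      _ = x * (a * (x * a * x)) := by rw [hc (x * a * x) (hmem a a.2) a a.2]
  calc Nat.card E = Nat.card ψ.ker * Nat.card ψ.range := by
        rw [← Subgroup.index_ker, Subgroup.card_mul_index]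
    _ ≤ _ := by rw [sq]; exact Nat.mul_le_mul hker hrange

/-- In such a Sylow subgroup every four-group has a centraliser of 2-rank at least three. -/
theorem vertex_of_four {S : Subgroup G} (hS : IsPGroup 2 S) (h : HasNormalEight S) {F : Subgroup G}
    (hF : IsKleinFour F) (hFS : F ≤ S) : Cfsg.IsRankGraphVertex 2 2 F := by
  haveI : Fact (Nat.Prime 2) := ⟨Nat.prime_two⟩
  obtain ⟨E, hES, hn, hc, h2, h8⟩ := h
  have hFe : Cfsg.IsElementaryAbelian 2 F :=
    ⟨⟨⟨fun a b => Subtype.ext (CfsgLib.Classification.comm_of_isKleinFour hF a.2 b.2)⟩⟩,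
      fun a ha => by rw [sq]; exact CfsgLib.Classification.sq_eq_one_of_isKleinFour hF ha⟩
  have hEe : Cfsg.IsElementaryAbelian 2 E :=
    ⟨⟨⟨fun a b => Subtype.ext (hc a a.2 b b.2)⟩⟩, fun a ha => by rw [sq]; exact h2 a ha⟩
  have hF4 : Nat.card F = 4 := hF.card_four
  refine ⟨hFe, by rw [hF4]; norm_num, ?_⟩
  by_cases hCF : E ⊓ centralizer (F : Set G) ≤ F
  · exfalso
    obtain ⟨z, hzE, hz1, hzc⟩ : ∃ z ∈ E, z ≠ 1 ∧ ∀ g ∈ S, g * z = z * g := by
      haveI : (E.subgroupOf S).Normal := (normal_subgroupOf_iff_le_normalizer hES).2 hn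
      obtain ⟨e, he, he1⟩ : ∃ e ∈ E.subgroupOf S, e ≠ 1 := by
        by_contra hall
        push Not at hall
        have : E.subgroupOf S = ⊥ := (eq_bot_iff_forall _).mpr hall
        have hcard := congrArg (fun K : Subgroup S => Nat.card K) this
        simp only [Nat.card_congr (subgroupOfEquivOfLe hES).toEquiv, Subgroup.card_bot] at hcard
        omega
      obtain ⟨v, hvE, hvZ, hv1⟩ := CfsgLib.Inv53.exists_central_of_normal hS (E.subgroupOf S) e he he1
      exact ⟨v, hvE, fun h => hv1 (Subtype.ext h),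
        fun g hg => congrArg Subtype.val (Subgroup.mem_center_iff.mp hvZ ⟨g, hg⟩)⟩
    have hzF : z ∈ F := hCF ⟨hzE, mem_centralizer_iff.mpr fun f hf => hzc f (hFS hf)⟩
    have hFE : ¬ F ≤ E := fun hle => by
      have : E ≤ F := le_trans (le_inf le_rfl (fun a ha => mem_centralizer_iff.mpr fun f hf =>
        hc f (hle hf) a ha)) hCF
      have := Subgroup.card_le_of_le this
      omega
    obtain ⟨b, hbF, hbE⟩ := SetLike.not_le_iff_exists.mp hFE
    have hlt : Nat.card ↥(F ⊓ E) ≤ 2 := by
      have h1 : Nat.card ↥(F ⊓ E) < 4 := by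
        rw [← hF4]
        exact lt_of_le_of_ne (Subgroup.card_le_of_le inf_le_left) fun e =>
          hFE (le_of_eq_of_le (eq_of_le_of_card_ge inf_le_left e.ge).symm inf_le_right)
      have h2' : Nat.card ↥(F ⊓ E) ∣ 4 := hF4 ▸ card_dvd_of_le inf_le_left
      have h3 : Nat.card ↥(F ⊓ E) ≠ 3 := fun e => by rw [e] at h2'; norm_num at h2'
      omega
    have hle : E ⊓ centralizer ({b} : Set G) ≤ F ⊓ E := by
      intro a ha
      refine ⟨hCF ⟨ha.1, mem_centralizer_iff.mpr fun f hf => ?_⟩, ha.1⟩
      by_cases hfE : f ∈ E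
      · exact hc f hfE a ha.1
      · have hba : b * a = a * b := (mem_centralizer_singleton_iff.mp ha.2).symm
        have hfb : f * b⁻¹ ∈ F ⊓ E ∨ f = b * z := by
          by_cases e : f * b⁻¹ ∈ E
          · exact Or.inl ⟨F.mul_mem hf (F.inv_mem hbF), e⟩
          · refine absurd ?_ e
            haveI : IsKleinFour F := hF
            have key : ∀ x : F, x = 1 ∨ x = ⟨z, hzF⟩ ∨ x = ⟨b, hbF⟩ ∨ x = ⟨z, hzF⟩ * ⟨b, hbF⟩ := by
              intro x
              by_cases h1 : x = 1
              · exact Or.inl h1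
              by_cases h2 : x = ⟨z, hzF⟩
              · exact Or.inr (Or.inl h2)
              by_cases h3 : x = ⟨b, hbF⟩
              · exact Or.inr (Or.inr (Or.inl h3))
              refine Or.inr (Or.inr (Or.inr (IsKleinFour.eq_mul_of_ne_all ?_ ?_ ?_ h1 h2 h3)))
              · intro e'; exact hz1 (congrArg Subtype.val e')
              · intro e'
                have e'' : b = 1 := congrArg Subtype.val e'
                exact hbE (by rw [e'']; exact E.one_mem)
              · intro e'
                have e'' : z = b := congrArg Subtype.val e'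
                exact hbE (by rw [← e'']; exact hzE)
            rcases key ⟨f, hf⟩ with h | h | h | h
            · have h' : f = 1 := congrArg Subtype.val h
              exact absurd (by rw [h']; exact E.one_mem) hfE
            · have h' : f = z := congrArg Subtype.val h
              exact absurd (by rw [h']; exact hzE) hfE
            · have h' : f = b := congrArg Subtype.val h
              rw [h', mul_inv_cancel]; exact E.one_mem
            · have h' : f = z * b := congrArg Subtype.val h
              rw [h', mul_inv_cancel_right]; exact hzE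
        rcases hfb with h | h
        · have := hc _ h.2 a ha.1
          calc f * a = f * b⁻¹ * (b * a) := by group
            _ = f * b⁻¹ * a * b := by rw [hba]; group
            _ = a * f := by rw [this]; group
        · rw [h, mul_assoc, hc z hzE a ha.1, ← mul_assoc, hba, mul_assoc]
    have := card_sup_fix hc h2 (CfsgLib.Classification.sq_eq_one_of_isKleinFour hF hbF)
      (hn (hFS hbF))
    have h1 := (Subgroup.card_le_of_le hle).trans hlt
    have := Nat.pow_le_pow_left h1 2
    omega
  · refine CfsgLib.SolvSig.not_pRankLE_iff.mpr ⟨F ⊔ (E ⊓ centralizer (F : Set G)), ?_, ?_, ?_⟩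
    · exact sup_le (le_centralizer_iff_isMulCommutative.mpr hFe.1) inf_le_right
    · exact CfsgLib.SolvSig.isElementaryAbelian_sup hFe (CfsgLib.Transitivity.elab_of_le_of_elab hEe inf_le_left)
        inf_le_right
    · rw [show (2 : ℕ) ^ 2 = Nat.card F from hF4.symm]
      by_contra hle
      exact hCF (le_of_le_of_eq le_sup_right
        (eq_of_le_of_card_ge le_sup_left (not_lt.mp hle)).symm)

variable {θ : G → Subgroup G}
  (hC : ∀ a : G, CfsgLib.SolvSig.RankThreePoint 2 a →
    θ a ≤ centralizer ({a} : Set G) ∧ Odd (Nat.card ↥(θ a)))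
  (heq : ∀ a g : G, CfsgLib.SolvSig.RankThreePoint 2 a →
    θ (g * a * g⁻¹) = (θ a).map (MulAut.conj g).toMonoidHom)
  (hbal : ∀ a b : G, CfsgLib.SolvSig.RankThreePoint 2 a → CfsgLib.SolvSig.RankThreePoint 2 b →
    a * b = b * a → θ a ⊓ centralizer {b} ≤ θ b)

include hC heq hbal

/-- One odd order subgroup is the closure over every four-group of the Sylow subgroup. -/
theorem exists_common_closure (S : Sylow 2 G) (h : HasNormalEight (S : Subgroup G)) :
    ∃ W : Subgroup G, Odd (Nat.card W) ∧
      ∀ F : Subgroup G, F ≤ (S : Subgroup G) → IsKleinFour F →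
        Cfsg.signalizerClosure F θ = W := by
  haveI : Fact (Nat.Prime 2) := ⟨Nat.prime_two⟩
  have hC' : ∀ a : G, CfsgLib.SolvSig.RankThreePoint 2 a →
      θ a ≤ centralizer ({a} : Set G) ∧ ¬ 2 ∣ Nat.card ↥(θ a) ∧ Group.IsSolvable ↥(θ a) := fun a ha =>
    ⟨(hC a ha).1, (hC a ha).2.not_two_dvd_nat, Cfsg.Agent.S0205.result (hC a ha).2⟩
  have hconn : Cfsg.IsFourConnected ↥(S : Subgroup G) := by
    obtain ⟨E, hES, hn, hc, h2, h8⟩ := h
    haveI : (E.subgroupOf (S : Subgroup G)).Normal := (normal_subgroupOf_iff_le_normalizer hES).2 hn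
    refine Cfsg.Agent.S0502.result S.isPGroup' (E.subgroupOf (S : Subgroup G))
      ⟨⟨fun a b => Subtype.ext (Subtype.ext (hc _ a.2 _ b.2))⟩⟩
      (fun a ha => Subtype.ext ?_) (by rwa [Nat.card_congr (subgroupOfEquivOfLe hES).toEquiv])
    rw [SubmonoidClass.coe_pow, sq]
    exact h2 _ ha
  obtain ⟨F₀, hF₀S, hF₀⟩ : ∃ F : Subgroup G, F ≤ (S : Subgroup G) ∧ IsKleinFour F := by
    obtain ⟨E, hES, hn, hc, h2, h8⟩ := h
    obtain ⟨U, hU⟩ := CfsgLib.Classification.exists_isKleinFour_of_not_pRankLE (G := E) (fun hr => by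
      have := hr ⊤ ⟨⟨fun a b => Subtype.ext (Subtype.ext (hc _ a.1.2 _ b.1.2))⟩⟩
        (fun a _ => Subtype.ext (by rw [SubmonoidClass.coe_pow, sq]; exact h2 _ a.2))
      rw [Subgroup.card_top] at this
      omega)
    exact ⟨U.map E.subtype, (map_subtype_le U).trans hES,
      CfsgLib.Classification.isKleinFour_map _ (subtype_injective _) hU⟩
  refine ⟨Cfsg.signalizerClosure F₀ θ, ?_, fun F hFS hF => ?_⟩
  · exact Nat.not_even_iff_odd.mp fun he =>
      (CfsgLib.SolvSig.closure_solvable hC' heq hbal (vertex_of_four S.isPGroup' h hF₀ hF₀S)).2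
        he.two_dvd
  · have key : ∀ U : Subgroup ↥(S : Subgroup G), IsKleinFour U →
        Cfsg.IsRankGraphVertex 2 2 (U.map (S : Subgroup G).subtype) := fun U hU =>
      vertex_of_four S.isPGroup' h
        (CfsgLib.Classification.isKleinFour_map _ (subtype_injective _) hU) (map_subtype_le U)
    have e : ∀ {K : Subgroup G}, K ≤ (S : Subgroup G) → IsKleinFour K →
        IsKleinFour (K.subgroupOf (S : Subgroup G)) := fun hK hKf =>
      ⟨(Nat.card_congr (subgroupOfEquivOfLe hK).toEquiv).trans hKf.card_four,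
        (Monoid.exponent_eq_of_mulEquiv (subgroupOfEquivOfLe hK)).trans hKf.exponent_two⟩
    have hchain := hconn _ _ (e hF₀S hF₀) (e hFS hF)
    have hmain : ∀ U, Relation.ReflTransGen
        (fun A B : Subgroup ↥(S : Subgroup G) => IsKleinFour A ∧ IsKleinFour B ∧
          ∀ a ∈ A, ∀ b ∈ B, a * b = b * a) (F₀.subgroupOf (S : Subgroup G)) U →
        Cfsg.signalizerClosure (U.map (S : Subgroup G).subtype) θ =
          Cfsg.signalizerClosure F₀ θ := by
      intro U hU
      induction hU with
      | refl => rw [map_subgroupOf_eq_of_le hF₀S]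
      | tail _ hstep ih =>
        rw [← ih]
        refine (CfsgLib.SolvSig.closure_eq_of_adj hC' heq hbal (key _ hstep.1) (key _ hstep.2.1) ?_).symm
        rintro _ ⟨a, ha, rfl⟩ _ ⟨b, hb, rfl⟩
        rw [← map_mul, hstep.2.2 a ha b hb, map_mul]
    have := hmain _ hchain
    rwa [map_subgroupOf_eq_of_le hFS] at this

end CfsgLib.BalancedClosure
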