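import Cfsg.Agent.BalancedClosure.Basic
import Cfsg.Agent.S1295

/-!
# The cores of centralisers of 2-elements when the involution centralisers are 2-constrained
-/

set_option autoImplicit false

namespace CfsgLib.BalancedClosure

open Subgroup

variable {G : Type*} [Group G] [Finite G]

/-- Every involution of a 2-group with a normal eight lies in one of its four-groups. -/
theorem exists_four_of_involution {S : Subgroup G} (hS : IsPGroup 2 S)
    (h : ¬ Cfsg.PRankLE 2 1 S) {a : G} (ha : a ∈ S) (ha2 : orderOf a = 2) :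
    ∃ F : Subgroup G, F ≤ S ∧ IsKleinFour F ∧ a ∈ F := by
  haveI : Fact (Nat.Prime 2) := ⟨Nat.prime_two⟩
  have hne : S ≠ ⊥ := fun e => by
    rw [e, mem_bot] at ha
    rw [ha, orderOf_one] at ha2
    omega
  obtain ⟨z, hzS, hz2, hzc⟩ := CfsgLib.Inv53.exists_orderOf_eq_central hS hne
  have hsq : ∀ {x : G}, orderOf x = 2 → x * x = 1 := fun hx => by
    rw [← sq, ← hx, pow_orderOf_eq_one]
  obtain ⟨U, hU⟩ := CfsgLib.Classification.exists_isKleinFour_of_not_pRankLE (G := S) h
  have hU' := CfsgLib.Classification.isKleinFour_map _ S.subtype_injective hU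
  obtain ⟨b, hbS, hb2, hba, hcomm⟩ : ∃ b ∈ S, orderOf b = 2 ∧ b ≠ a ∧ a * b = b * a := by
    by_cases haz : a = z
    · obtain ⟨u, hu, hu1, hua⟩ := CfsgLib.Classification.exists_mem_ne_of_isKleinFour hU' a
      refine ⟨u, map_subtype_le U hu, orderOf_eq_prime (by
        rw [sq]; exact CfsgLib.Classification.sq_eq_one_of_isKleinFour hU' hu) hu1, hua, ?_⟩
      rw [haz, hzc u (map_subtype_le U hu)]
    · exact ⟨z, hzS, hz2, Ne.symm haz, hzc a ha⟩
  have ha1 : a ≠ 1 := fun e => by rw [e, orderOf_one] at ha2; omega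
  have hb1 : b ≠ 1 := fun e => by rw [e, orderOf_one] at hb2; omega
  refine ⟨_, ?_, CfsgLib.Classification.isKleinFour_fourSpan (hsq ha2) (hsq hb2) hcomm ha1 hb1
    (Ne.symm hba), ?_⟩
  · intro x hx
    rcases CfsgLib.Classification.mem_fourSpan.mp hx with rfl | rfl | rfl | rfl
    exacts [S.one_mem, ha, hbS, S.mul_mem ha hbS]
  · exact CfsgLib.Classification.mem_fourSpan.mpr (Or.inr (Or.inl rfl))

theorem not_pRankLE_one_of_eight {S : Subgroup G} (h : HasNormalEight S) :
    ¬ Cfsg.PRankLE 2 1 S := by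
  obtain ⟨E, hES, -, hc, h2, h8⟩ := h
  intro hr
  have := hr (E.subgroupOf S) ⟨⟨fun a b => Subtype.ext (Subtype.ext (hc _ a.2 _ b.2))⟩⟩
    (fun a ha => Subtype.ext (by rw [SubmonoidClass.coe_pow, sq]; exact h2 _ ha))
  rw [Nat.card_congr (subgroupOfEquivOfLe hES).toEquiv] at this
  omega

/-- With a normal eight in a Sylow subgroup every involution is a rank three point. -/
theorem rankThreePoint_of_eight (S : Sylow 2 G) (h : HasNormalEight (S : Subgroup G)) {a : G}
    (ha : orderOf a = 2) : CfsgLib.SolvSig.RankThreePoint 2 a := by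
  haveI : Fact (Nat.Prime 2) := ⟨Nat.prime_two⟩
  have hp : IsPGroup 2 (zpowers a) := IsPGroup.of_card (n := 1) (by rw [Nat.card_zpowers, ha, pow_one])
  obtain ⟨T, hT⟩ := hp.exists_le_sylow
  have h' := hasNormalEight_of_sylow S h T
  obtain ⟨F, hFT, hF, haF⟩ := exists_four_of_involution T.isPGroup' (not_pRankLE_one_of_eight h')
    (hT (mem_zpowers a)) ha
  exact ⟨ha, CfsgLib.SolvSig.not_pRankLE_mono
    (centralizer_le (Set.singleton_subset_iff.mpr haF)) (vertex_of_four T.isPGroup' h' hF hFT).2.2⟩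

/-- A core of the centraliser of a `p`-element lies in the core of the centraliser of any
`p`-constrained power of order `p`. -/
theorem core_le_core_of_power {p : ℕ} [Fact p.Prime] {b z : G}
    (hc : Cfsg.IsPConstrained p ↥(centralizer ({z} : Set G))) (hb : IsPGroup p (zpowers b))
    (hz : z ∈ zpowers b) : Cfsg.centralizerPPrimeCore p b ≤ Cfsg.centralizerPPrimeCore p z := by
  set H := centralizer ({z} : Set G)
  set X := Cfsg.centralizerPPrimeCore p b
  obtain ⟨k, rfl⟩ := mem_zpowers_iff.mp hz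
  have hle : centralizer ({b} : Set G) ≤ H := fun y hy =>
    mem_centralizer_singleton_iff.mpr
      (Commute.zpow_right (mem_centralizer_singleton_iff.mp hy : Commute y b) k).eq
  have hXH : X ≤ H := (map_subtype_le _).trans hle
  have hbH : b ∈ H := hle (mem_centralizer_singleton_iff.mpr rfl)
  intro x hx
  refine ⟨⟨x, hXH hx⟩, ?_, rfl⟩
  refine CfsgLib.Inv53.le_pPrimeCore_of_normalized hc (A := (zpowers b).subgroupOf H)
    (X := X.subgroupOf H) hb.comap_subtype ?_ ?_ ?_ hx
  · rw [Nat.card_congr (subgroupOfEquivOfLe hXH).toEquiv]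
    exact CfsgLib.SolvSig.card_core'_coprime p _
  · intro y hy
    refine mem_centralizer_iff.mpr fun w hw => Subtype.ext ?_
    obtain ⟨j, hj⟩ := mem_zpowers_iff.mp hy
    show (w : G) * y = y * w
    rw [show (y : G) = b ^ j from hj.symm]
    exact (Commute.zpow_right (mem_centralizer_singleton_iff.mp
      (map_subtype_le _ hw) : Commute (w : G) b) j).eq
  · intro c hc'
    have hcb : (c : G) ∈ centralizer ({b} : Set G) :=
      mem_centralizer_singleton_iff.mpr (congrArg Subtype.val
        (mem_centralizer_iff.mp hc' ⟨b, hbH⟩ (mem_zpowers b))).symm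
    exact mem_normalizer_iff.mpr fun y => mem_normalizer_iff.mp
      (CfsgLib.SolvSig.normalizer_le_normalizer_core' p _ (le_normalizer hcb)) (y : G)

/-- The centraliser of an involution in a group with 2-constrained 2-locals is 2-constrained. -/
theorem constrained_centralizer_of_locals
    (h2c : ∀ T : Subgroup G, IsPGroup 2 T → T ≠ ⊥ →
      Cfsg.IsPConstrained 2 ↥(normalizer (T : Set G))) {z : G} (hz : orderOf z = 2) :
    Cfsg.IsPConstrained 2 ↥(centralizer ({z} : Set G)) := by
  haveI : Fact (Nat.Prime 2) := ⟨Nat.prime_two⟩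
  have hT : IsPGroup 2 (zpowers z) := IsPGroup.of_card (n := 1) (by rw [Nat.card_zpowers, hz, pow_one])
  have hz1 : z ≠ 1 := fun e => by rw [e, orderOf_one] at hz; omega
  have h := h2c _ hT (by rwa [Ne, zpowers_eq_bot])
  have heq : centralizer ({z} : Set G) = centralizer ((zpowers z : Subgroup G) : Set G) := by
    rw [CfsgLib.Transitivity.centralizer_singleton_eq]
  rw [heq]
  exact CfsgLib.Inv53.isPConstrained_centralizer_of_le hT le_normalizer
    (centralizer_le_normalizer _) h

/-- The whole family of cores has one closure over each subgroup of rank two of a Sylow subgroup. -/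
theorem exists_core_closure
    (hc : ∀ z : G, orderOf z = 2 → Cfsg.IsPConstrained 2 ↥(centralizer ({z} : Set G)))
    (S : Sylow 2 G) (h : HasNormalEight (S : Subgroup G)) :
    ∃ W : Subgroup G, Odd (Nat.card W) ∧
      ∀ B : Subgroup G, B ≤ (S : Subgroup G) → ¬ Cfsg.PRankLE 2 1 ↥B →
        W = (⨆ b : {b : G // b ∈ B ∧ b ≠ 1}, Cfsg.centralizerPPrimeCore 2 (b : G)) ∧
        normalizer (B : Set G) ≤ normalizer (W : Set G) := by
  haveI : Fact (Nat.Prime 2) := ⟨Nat.prime_two⟩
  obtain ⟨W, hWodd, hW⟩ := exists_common_closure (θ := Cfsg.centralizerPPrimeCore 2)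
    (fun a _ => ⟨map_subtype_le _, by
      have := CfsgLib.Transitivity.not_dvd_centralizerPPrimeCore (p := 2) a
      exact Nat.not_even_iff_odd.mp fun he => this he.two_dvd⟩)
    (fun a g _ => Cfsg.Agent.S1295.centralizerPPrimeCore_conj a g)
    (fun a b ha hb hab => Cfsg.Agent.S1295.balance (hc b hb.1) ha.1 hab) S h
  refine ⟨W, hWodd, fun B hBS hB => ?_⟩
  have heq : W = ⨆ b : {b : G // b ∈ B ∧ b ≠ 1}, Cfsg.centralizerPPrimeCore 2 (b : G) := by
    have hBp : IsPGroup 2 B := S.isPGroup'.to_le hBS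
    obtain ⟨U, hU⟩ := CfsgLib.Classification.exists_isKleinFour_of_not_pRankLE (G := B) hB
    refine le_antisymm ?_ (iSup_le fun b => ?_)
    · rw [← hW _ ((map_subtype_le U).trans hBS)
        (CfsgLib.Classification.isKleinFour_map _ B.subtype_injective hU)]
      exact iSup_le fun a => le_iSup (fun b : {b : G // b ∈ B ∧ b ≠ 1} =>
        Cfsg.centralizerPPrimeCore 2 (b : G)) ⟨a, map_subtype_le U a.2.1, a.2.2⟩
    · obtain ⟨z, hzb, hz2, -⟩ := CfsgLib.Inv53.exists_orderOf_eq_central
        (hBp.to_le (zpowers_le.mpr b.2.1)) (fun e => b.2.2 (zpowers_eq_bot.mp e))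
      have hzB : z ∈ B := zpowers_le.mpr b.2.1 hzb
      obtain ⟨F, hFB, hF, hzF⟩ := exists_four_of_involution hBp hB hzB hz2
      rw [← hW F (hFB.trans hBS) hF]
      refine (core_le_core_of_power (hc z hz2) (hBp.to_le (zpowers_le.mpr b.2.1)) hzb).trans ?_
      exact le_iSup (fun a : {a : G // a ∈ F ∧ a ≠ 1} => Cfsg.centralizerPPrimeCore 2 (a : G))
        ⟨z, hzF, fun e => by rw [e, orderOf_one] at hz2; omega⟩
  refine ⟨heq, fun g hg => ?_⟩
  rw [heq]
  refine Subgroup.mem_normalizer_iff_map_conj_eq.mpr ?_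
  rw [Subgroup.map_iSup]
  refine le_antisymm (iSup_le fun b => ?_) (iSup_le fun b => ?_)
  · refine le_trans (le_of_eq (Cfsg.Agent.S1295.centralizerPPrimeCore_conj (b : G) g).symm) ?_
    refine le_iSup (fun b : {b : G // b ∈ B ∧ b ≠ 1} => Cfsg.centralizerPPrimeCore 2 (b : G))
      ⟨g * b * g⁻¹, (mem_normalizer_iff.mp hg _).mp b.2.1, fun e => b.2.2 ?_⟩
    rwa [mul_inv_eq_one, mul_eq_left] at e
  · refine le_trans (le_of_eq ?_) (le_iSup (fun c : {b : G // b ∈ B ∧ b ≠ 1} =>
      (Cfsg.centralizerPPrimeCore 2 (c : G)).map (MulAut.conj g).toMonoidHom)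
      ⟨g⁻¹ * b * g, ?_, fun e => b.2.2 ?_⟩)
    · refine Eq.trans ?_ (Cfsg.Agent.S1295.centralizerPPrimeCore_conj _ g)
      congr 1
      group
    · rw [mem_normalizer_iff.mp hg]
      simpa [mul_assoc] using b.2.1
    · simpa [mul_assoc, inv_mul_eq_one, eq_comm] using e

end CfsgLib.BalancedClosure
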